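import Groth.Agent.SemiRankLib.Basic
import Mathlib.RingTheory.Ideal.Maximal

/-! A finitely presented module over a reduced ring whose fibre dimension is locally constant is projective. -/

set_option autoImplicit false
universe u v

open scoped TensorProduct

namespace SemiRankLib

variable {A : Type u} [CommRing A] [IsReduced A]

theorem projective_of_fibreRank_le_const (M : Type v) [AddCommGroup M] [Module A M] [Module.FinitePresentation A M]
    (h : ∀ p q : PrimeSpectrum A, p ≤ q → fibreRank M p = fibreRank M q) : Module.Projective A M := by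
  refine Module.freeLocus_eq_univ_iff.mp (Set.eq_univ_iff_forall.mpr fun x => ?_)
  classical
  let K := x.asIdeal.ResidueField
  obtain ⟨b, hb0, hb1, hb2⟩ := exists_linearIndependent K
    (Set.range fun m : M => (1 : K) ⊗ₜ[A] m)
  have hspan : Submodule.span K b = ⊤ := by
    rw [hb1, eq_top_iff]
    intro z _
    induction z using TensorProduct.induction_on with
    | zero => exact zero_mem _
    | tmul k m =>
      rw [show k ⊗ₜ[A] m = k • ((1 : K) ⊗ₜ[A] m) by rw [TensorProduct.smul_tmul', smul_eq_mul, mul_one]]
      exact Submodule.smul_mem _ _ (Submodule.subset_span ⟨m, rfl⟩)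
    | add z w hz hw => exact add_mem (hz Submodule.mem_top) (hw Submodule.mem_top)
  let bas : Module.Basis b K (K ⊗[A] M) := Module.Basis.mk hb2 (by rw [Subtype.range_coe, hspan])
  haveI : Finite b := Module.Finite.finite_basis bas
  haveI := Fintype.ofFinite b
  have hmem : ∀ i : b, ∃ m : M, (1 : K) ⊗ₜ[A] m = (i : K ⊗[A] M) := fun i => by
    have hsub : b ⊆ Set.range fun m : M => (1 : K) ⊗ₜ[A] m := hb0
    exact hsub i.2
  choose m hm using hmem
  let F : (b → A) →ₗ[A] M := Fintype.linearCombination A m
  have hC : x ∉ Module.support A (M ⧸ LinearMap.range F) := by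
    rw [Module.mem_support_iff_nontrivial_residueField_tensorProduct, not_nontrivial_iff_subsingleton]
    have hsurj : Function.Surjective ((LinearMap.range F).mkQ.baseChange K) :=
      LinearMap.lTensor_surjective K (Submodule.mkQ_surjective _)
    have hzero : (LinearMap.range F).mkQ.baseChange K = 0 := by
      refine bas.ext fun i => ?_
      rw [Module.Basis.mk_apply, ← hm i, LinearMap.baseChange_tmul, LinearMap.zero_apply]
      have : (LinearMap.range F).mkQ (m i) = 0 := by
        refine (Submodule.Quotient.mk_eq_zero _).2 ⟨Pi.single i 1, ?_⟩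
        simp [F, Fintype.linearCombination_apply_single]
      rw [this, TensorProduct.tmul_zero]
    refine ⟨fun z w => ?_⟩
    obtain ⟨z, rfl⟩ := hsurj z
    obtain ⟨w, rfl⟩ := hsurj w
    rw [hzero]; rfl
  let S := x.asIdeal.primeCompl
  have hsub : ∀ y : PrimeSpectrum A, y ≤ x → Function.Surjective (F.baseChange y.asIdeal.ResidueField) := fun y hy z => by
    refine (lTensor_exact y.asIdeal.ResidueField (LinearMap.exact_map_mkQ_range F) (Submodule.mkQ_surjective _) z).1 ?_
    haveI : Subsingleton (y.asIdeal.ResidueField ⊗[A] (M ⧸ LinearMap.range F)) := by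
      rw [← not_nontrivial_iff_subsingleton, ← Module.mem_support_iff_nontrivial_residueField_tensorProduct]
      exact fun hm => hC (Module.mem_support_mono hy hm)
    exact Subsingleton.elim _ _
  have hnil : ∀ z : b → A, F z = 0 → ∀ i, ∀ y : PrimeSpectrum A, y ≤ x → z i ∈ y.asIdeal := fun z hz i y hy => by
    have : Nontrivial A := ⟨0, 1, fun h => y.2.ne_top ((Ideal.eq_top_iff_one _).2 (h ▸ zero_mem _))⟩
    let L := y.asIdeal.ResidueField
    have hd : Module.finrank L (L ⊗[A] (b → A)) = Module.finrank L (L ⊗[A] M) := by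
      rw [Module.finrank_baseChange, Module.finrank_fintype_fun_eq_card, ← Module.finrank_eq_card_basis bas]
      exact (h y x hy).symm
    have hinj := (LinearMap.injective_iff_surjective_of_finrank_eq_finrank hd).mpr (hsub y hy)
    have h0 : (1 : L) ⊗ₜ[A] z = 0 := hinj (by rw [LinearMap.baseChange_tmul, hz, TensorProduct.tmul_zero, map_zero])
    have h1 := congrArg (TensorProduct.rid A L ∘ (LinearMap.proj (R := A) (φ := fun _ : b => A) i).lTensor L) h0
    simp only [Function.comp_apply, LinearMap.lTensor_tmul, map_zero, TensorProduct.rid_tmul, LinearMap.proj_apply] at h1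
    rw [Algebra.smul_def, mul_one] at h1
    exact Ideal.algebraMap_residueField_eq_zero.mp h1
  have hkill : ∀ z : b → A, F z = 0 → ∃ t ∈ S, t • z = 0 := by
    intro z hz
    have hone : ∀ i, ∃ t ∈ S, t * z i = 0 := fun i => by
      by_contra hc
      push Not at hc
      obtain ⟨p, hp, -, hd⟩ := Ideal.exists_le_prime_disjoint (⊥ : Ideal A) (S ⊔ Submonoid.powers (z i)) (by
        rw [Set.disjoint_left]
        intro w hw hw'
        rw [SetLike.mem_coe, Ideal.mem_bot] at hw
        obtain ⟨t, ht, u, ⟨n, rfl⟩, rfl⟩ := Submonoid.mem_sup.mp hw'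
        refine hc t ht (eq_zero_of_pow_eq_zero (n := n + 1) ?_)
        calc (t * z i) ^ (n + 1) = t ^ n * z i * (t * z i ^ n) := by ring
          _ = 0 := by rw [hw, mul_zero])
      refine Set.disjoint_left.mp hd (hnil z hz i ⟨p, hp⟩ (fun w hw => ?_)) (Submonoid.mem_sup_right (Submonoid.mem_powers _))
      by_contra hwx
      exact Set.disjoint_left.mp hd hw (Submonoid.mem_sup_left hwx)
    choose t ht ht0 using hone
    refine ⟨∏ i, t i, prod_mem fun i _ => ht i, funext fun i => ?_⟩
    rw [Pi.smul_apply, smul_eq_mul, Pi.zero_apply, ← Finset.prod_erase_mul _ _ (Finset.mem_univ i), mul_assoc, ht0, mul_zero]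
  have hbij : Function.Bijective (LocalizedModule.map S F) := by
    refine ⟨(injective_iff_map_eq_zero _).mpr fun w => ?_, fun w => ?_⟩
    · induction w using LocalizedModule.induction_on with
      | h z s =>
        intro hw
        rw [LocalizedModule.map_mk, ← LocalizedModule.zero_mk s, LocalizedModule.mk_eq] at hw
        obtain ⟨⟨r, hr⟩, hw⟩ := hw
        simp only [Submonoid.smul_def, smul_zero] at hw
        rw [← mul_smul] at hw
        have hrs : r * (s : A) ∈ S := mul_mem hr s.2
        have hr0 : (r * (s : A)) • F z = 0 := hw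
        obtain ⟨t, ht, ht0⟩ := hkill ((r * (s : A)) • z) (by rw [map_smul, hr0])
        rw [← LocalizedModule.zero_mk s, LocalizedModule.mk_eq]
        refine ⟨⟨t * r, mul_mem ht hr⟩, ?_⟩
        simp only [Submonoid.smul_def, smul_zero]
        rw [← mul_smul, mul_assoc, mul_smul, ht0]
    · induction w using LocalizedModule.induction_on with
      | h m' s =>
        obtain ⟨t, ht, ht0⟩ := Module.notMem_support_iff'.mp hC ((LinearMap.range F).mkQ m')
        rw [Submodule.mkQ_apply, ← Submodule.Quotient.mk_smul, Submodule.Quotient.mk_eq_zero] at ht0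
        obtain ⟨z, hz⟩ := ht0
        exact ⟨LocalizedModule.mk z (⟨t, ht⟩ * s), by rw [LocalizedModule.map_mk, hz]; exact LocalizedModule.mk_cancel_common_left ⟨t, ht⟩ s m'⟩
  have hfree : x ∈ Module.freeLocus A (b → A) := by rw [Module.freeLocus_eq_univ]; trivial
  haveI : Module.Free (Localization.AtPrime x.asIdeal) (LocalizedModule x.asIdeal.primeCompl (b → A)) := hfree
  exact Module.Free.of_equiv (LinearEquiv.ofBijective _ hbij)

end SemiRankLib
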