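import Groth.Agent.DefLib.ArtFlat
import Mathlib.RingTheory.LocalRing.Module

/-! Reductions modulo the maximal ideal of an Artinian local ring. -/

set_option autoImplicit false
universe u v w

open TensorProduct IsLocalRing

namespace SemiRankLib

variable {C : Type u} [CommRing C] [IsLocalRing C] {M : Type v} [AddCommGroup M] [Module C M]

theorem isNilpotent_maximalIdeal [IsArtinianRing C] : IsNilpotent (maximalIdeal C) := by
  rw [← IsLocalRing.jacobson_eq_maximalIdeal ⊥ bot_ne_top]
  exact IsArtinianRing.isNilpotent_jacobson_bot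

theorem one_tmul_eq_zero_iff (x : M) :
    (1 : ResidueField C) ⊗ₜ[C] x = 0 ↔ x ∈ maximalIdeal C • (⊤ : Submodule C M) := by
  rw [← LinearMap.ker_tensorProductMk]; rfl

theorem lTensor_residueField_injective_iff {N : Type w} [AddCommGroup N] [Module C N] (f : M →ₗ[C] N) :
    Function.Injective (f.lTensor (ResidueField C)) ↔
      ∀ x, f x ∈ maximalIdeal C • (⊤ : Submodule C N) → x ∈ maximalIdeal C • (⊤ : Submodule C M) := by
  constructor
  · intro h x hx
    rw [← one_tmul_eq_zero_iff] at hx ⊢
    exact h (by rw [LinearMap.lTensor_tmul, hx, map_zero])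
  · intro h
    refine (injective_iff_map_eq_zero _).mpr fun z hz => ?_
    obtain ⟨x, rfl⟩ := TensorProduct.mk_surjective C M (ResidueField C) Ideal.Quotient.mk_surjective z
    rw [TensorProduct.mk_apply, LinearMap.lTensor_tmul, one_tmul_eq_zero_iff] at hz
    exact (one_tmul_eq_zero_iff x).mpr (h x hz)

end SemiRankLib
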