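import Mathlib.LinearAlgebra.TensorProduct.RightExactness
import Mathlib.RingTheory.Spectrum.Prime.FreeLocus
import Mathlib.RingTheory.Support
import Mathlib.RingTheory.Spectrum.Prime.Module
import Mathlib.Topology.Semicontinuity.Basic
import Mathlib.LinearAlgebra.FiniteDimensional.Lemmas
import Mathlib.RingTheory.LocalRing.Module

/-! Semicontinuity of fibre dimensions of modules and ranks of linear maps, universe polymorphic
(adapted from `Groth.Agent.FlatCxLib.Rank`). -/

set_option autoImplicit false
universe u v

open scoped TensorProduct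

namespace SemiRankLib

variable {A : Type u} [CommRing A]

theorem finrank_coker_baseChange {K : Type u} [Field K] [Algebra A K] {X Y : Type v} [AddCommGroup X] [Module A X] [AddCommGroup Y] [Module A Y] (f : X →ₗ[A] Y) :
    Module.finrank K (K ⊗[A] (Y ⧸ LinearMap.range f)) =
      Module.finrank K ((K ⊗[A] Y) ⧸ LinearMap.range (f.baseChange K)) := by
  have hsurj : Function.Surjective ((LinearMap.range f).mkQ.baseChange K) :=
    LinearMap.lTensor_surjective K (Submodule.mkQ_surjective (LinearMap.range f))
  have hker : LinearMap.ker ((LinearMap.range f).mkQ.baseChange K) = LinearMap.range (f.baseChange K) := by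
    ext x
    exact lTensor_exact K (LinearMap.exact_map_mkQ_range f) (Submodule.mkQ_surjective _) x
  exact ((Submodule.quotEquivOfEq _ _ hker.symm).trans
    (((LinearMap.range f).mkQ.baseChange K).quotKerEquivOfSurjective hsurj)).finrank_eq.symm

/-- The dimension of the fibre of `M` at `x`. -/
noncomputable def fibreRank (M : Type v) [AddCommGroup M] [Module A M] (x : PrimeSpectrum A) : ℕ :=
  Module.finrank x.asIdeal.ResidueField (x.asIdeal.ResidueField ⊗[A] M)

theorem fibreRank_eq_rankAtStalk (M : Type v) [AddCommGroup M] [Module A M] [Module.Finite A M]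
    [Module.Flat A M] (x : PrimeSpectrum A) : fibreRank M x = Module.rankAtStalk M x := by
  haveI : Module.Free (Localization.AtPrime x.asIdeal) (Localization.AtPrime x.asIdeal ⊗[A] M) :=
    Module.free_of_flat_of_isLocalRing
  rw [Module.rankAtStalk_eq_finrank_tensorProduct, fibreRank,
    ← (TensorProduct.AlgebraTensorModule.cancelBaseChange A (Localization.AtPrime x.asIdeal)
      x.asIdeal.ResidueField x.asIdeal.ResidueField M).finrank_eq, Module.finrank_baseChange]

theorem eventually_fibreRank_le (M : Type v) [AddCommGroup M] [Module A M] [Module.Finite A M]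
    (x : PrimeSpectrum A) : ∀ᶠ y in nhds x, fibreRank M y ≤ fibreRank M x := by
  classical
  let K := x.asIdeal.ResidueField
  obtain ⟨b, hb0, hb1, hb2⟩ := exists_linearIndependent K
    (Set.range fun m : M => (1 : K) ⊗ₜ[A] m)
  have hspan : Submodule.span K b = ⊤ := by
    rw [hb1, eq_top_iff]
    intro z _
    induction z using TensorProduct.induction_on with
    | zero => exact zero_mem _
    | tmul k m =>
      rw [show k ⊗ₜ[A] m = k • ((1 : K) ⊗ₜ[A] m) by rw [TensorProduct.smul_tmul', smul_eq_mul, mul_one]]
      exact Submodule.smul_mem _ _ (Submodule.subset_span ⟨m, rfl⟩)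
    | add z w hz hw => exact add_mem (hz Submodule.mem_top) (hw Submodule.mem_top)
  let bas : Module.Basis b K (K ⊗[A] M) := Module.Basis.mk hb2 (by rw [Subtype.range_coe, hspan])
  haveI : Finite b := Module.Finite.finite_basis bas
  haveI := Fintype.ofFinite b
  have hmem : ∀ i : b, ∃ m : M, (1 : K) ⊗ₜ[A] m = (i : K ⊗[A] M) := fun i => by
    have hsub : b ⊆ Set.range fun m : M => (1 : K) ⊗ₜ[A] m := hb0
    exact hsub i.2
  choose m hm using hmem
  let F : (b → A) →ₗ[A] M := Fintype.linearCombination A m
  have hC : x ∉ Module.support A (M ⧸ LinearMap.range F) := by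
    rw [Module.mem_support_iff_nontrivial_residueField_tensorProduct, not_nontrivial_iff_subsingleton]
    have hsurj : Function.Surjective ((LinearMap.range F).mkQ.baseChange K) :=
      LinearMap.lTensor_surjective K (Submodule.mkQ_surjective _)
    have hzero : (LinearMap.range F).mkQ.baseChange K = 0 := by
      refine bas.ext fun i => ?_
      rw [Module.Basis.mk_apply, ← hm i, LinearMap.baseChange_tmul, LinearMap.zero_apply]
      have : (LinearMap.range F).mkQ (m i) = 0 := by
        refine (Submodule.Quotient.mk_eq_zero _).2 ⟨Pi.single i 1, ?_⟩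
        simp [F, Fintype.linearCombination_apply_single]
      rw [this, TensorProduct.tmul_zero]
    refine ⟨fun z w => ?_⟩
    obtain ⟨z, rfl⟩ := hsurj z
    obtain ⟨w, rfl⟩ := hsurj w
    rw [hzero]; rfl
  have hopen : IsOpen (Module.support A (M ⧸ LinearMap.range F))ᶜ :=
    (Module.isClosed_support).isOpen_compl
  filter_upwards [hopen.mem_nhds hC] with y hy
  let L := y.asIdeal.ResidueField
  have : Nontrivial A := ⟨0, 1, fun h => y.2.ne_top ((Ideal.eq_top_iff_one _).2 (h ▸ zero_mem _))⟩
  have hFy : Function.Surjective (F.baseChange L) := by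
    intro z
    refine (lTensor_exact L (LinearMap.exact_map_mkQ_range F) (Submodule.mkQ_surjective _) z).1 ?_
    rw [Set.mem_compl_iff, Module.mem_support_iff_nontrivial_residueField_tensorProduct,
      not_nontrivial_iff_subsingleton] at hy
    exact Subsingleton.elim _ _
  calc fibreRank M y ≤ Module.finrank L (L ⊗[A] (b → A)) := by
        rw [fibreRank, ← finrank_top L (L ⊗[A] M), ← LinearMap.range_eq_top.2 hFy]
        exact LinearMap.finrank_range_le _
    _ = fibreRank M x := by
        rw [Module.finrank_baseChange, Module.finrank_fintype_fun_eq_card, fibreRank,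
          Module.finrank_eq_card_basis bas]

theorem finrank_range_add_fibreRank_coker {X Y : Type v} [AddCommGroup X] [Module A X] [AddCommGroup Y]
    [Module A Y] [Module.Finite A Y] (f : X →ₗ[A] Y) (x : PrimeSpectrum A) :
    Module.finrank x.asIdeal.ResidueField (LinearMap.range (f.baseChange x.asIdeal.ResidueField)) +
      fibreRank (Y ⧸ LinearMap.range f) x = fibreRank Y x := by
  rw [fibreRank, finrank_coker_baseChange, add_comm, Submodule.finrank_quotient_add_finrank, fibreRank]

theorem eventually_le_finrank_range {X Y : Type v} [AddCommGroup X] [Module A X] [AddCommGroup Y]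
    [Module A Y] [Module.Finite A Y] [Module.Flat A Y] [Module.FinitePresentation A Y] (f : X →ₗ[A] Y) (x : PrimeSpectrum A) :
    ∀ᶠ y in nhds x, Module.finrank x.asIdeal.ResidueField (LinearMap.range (f.baseChange x.asIdeal.ResidueField)) ≤
      Module.finrank y.asIdeal.ResidueField (LinearMap.range (f.baseChange y.asIdeal.ResidueField)) := by
  have hloc : ∀ᶠ y in nhds x, fibreRank Y y = fibreRank Y x := by
    simp only [fibreRank_eq_rankAtStalk]
    exact (IsLocallyConstant.iff_eventually_eq _).1 Module.isLocallyConstant_rankAtStalk x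
  filter_upwards [hloc, eventually_fibreRank_le (Y ⧸ LinearMap.range f) x] with y h1 h2
  have e1 := finrank_range_add_fibreRank_coker f x
  have e2 := finrank_range_add_fibreRank_coker f y
  omega

end SemiRankLib
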